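import Cfsg.Agent.H84.EP.SpB
import Cfsg.Agent.S5806

/-!
# S3499, `Sp₆(2)` : the residual class from S5806 (helper84)
-/

set_option autoImplicit false

namespace Cfsg.Agent.H84.EP

open Cfsg Cfsg.Geo

theorem res56 : Res56 := by
  intro H hH hS
  have hc : Fintype.card (ZMod 2) = 2 := ZMod.card 2
  obtain ⟨P, p, hP, hp, hcp, h⟩ := Cfsg.Agent.S5806.result H hH hS
  have hp2 : p = 2 := CharP.eq (ZMod 2) hcp (ZMod.charP 2)
  subst hp2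
  rw [hc] at h
  rcases h with ⟨-, -, h⟩ | ⟨-, h⟩ | ⟨-, h⟩ | ⟨-, h⟩ | ⟨h, -⟩ | ⟨-, h⟩ | ⟨-, h⟩ | ⟨-, -, h⟩
  · omega
  · omega
  · omega
  · omega
  · exact ⟨P, hP, h⟩
  · omega
  · omega
  · omega

end Cfsg.Agent.H84.EP
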