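import Cfsg.Agent.H84.EP.SpC

/-!
# S3499, `Sp₆(2)` : combinatorics of the weights of `D` in dimension 8 (helper84)
-/

set_option autoImplicit false

namespace Cfsg.Agent.H84.EP

open Cfsg Matrix Cfsg.Agent.SporRec.TwoSp6.Sp

/-- the weights in dimension 8 -/
def wt8 (ε : Fin 7 → Bool) (b : Fin 8) (i : Fin 7) : Bool :=
  if b.val = 0 then false else ε (yp^[b.val - 1] i)

theorem comb1' : ∀ ε : Fin 7 → Bool, ε 0 ≠ ε 1 → par ε = false → ∀ b b' : Fin 8,
    (∀ i, wt8 ε b i = wt8 ε b' i) → b = b' := by decide +kernel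

theorem comb2' : ∀ ε : Fin 7 → Bool, ε 0 ≠ ε 1 → par ε = false →
    (∀ k : Fin 3, ∃ a : Fin 8, ∀ b : Fin 8, ∃ c : Fin 8, ∀ i, xor (wt8 ε a i) (wt8 ε b (gp k i)) = wt8 ε c i) →
    (∃ i0, ∀ i, ε i = !decide (i = i0)) ∨
      ∀ b : Fin 8, xor (wt8 ε b 0) (xor (wt8 ε b 1) (wt8 ε b 2)) = false := by
  decide +kernel

theorem comb6 : ∀ μ : Fin 7 → Bool, (∀ i, μ (yp i) = μ i) → par μ = false → ∀ i, μ i = false := by decide +kernel

/-- the position in the cycle -/
def pos : Fin 7 → ℕ := ![0, 1, 3, 2, 6, 4, 5]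

theorem pos_spec : ∀ i : Fin 7, yp^[pos i] 0 = i := by decide +kernel

theorem pos_yp : ∀ i : Fin 7, pos (yp i) = (pos i + 1) % 7 := by decide +kernel

/-- the weights of the frame -/
def wo (a : Option (Fin 7)) (j : Fin 7) : Bool :=
  match a with
  | none => false
  | some i => !decide (j = i)

theorem wo_cyc : ∀ (a : Option (Fin 7)) (i : Fin 7), wo (a.map cyc) (cyc i) = wo a i := by decide +kernel

theorem wo_ne : ∀ a b : Option (Fin 7), a ≠ b → ∃ j, wo a j ≠ wo b j := by decide +kernel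

theorem wo_inj : Function.Injective wo := by
  intro a b h
  by_contra hne
  obtain ⟨j, hj⟩ := wo_ne a b hne
  exact hj (congrFun h j)

theorem ya_pow_act (n : ℕ) (i : Fin 7) : act (ya ^ n) (pt i) = pt (yp^[n] i) := by
  induction n generalizing i with
  | zero => rw [pow_zero, act_one]; rfl
  | succ n ih => rw [pow_succ, act_mul, act_ya, ih]; rfl

theorem ym_seven : ym * (ym * (ym * (ym * (ym * (ym * ym))))) = 1 := by decide +kernel

theorem ym'_seven : ym' * (ym' * (ym' * (ym' * (ym' * (ym' * ym'))))) = 1 := by decide +kernel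

theorem LL_mul (g h g' h' : Matrix (Fin 3) (Fin 3) (ZMod 2)) (e1 : g * hᵀ = 1) (e2 : g' * h'ᵀ = 1)
    (e3 : g * g' * (h * h')ᵀ = 1) : LL g h e1 * LL g' h' e2 = LL (g * g') (h * h') e3 := by
  apply Subtype.ext
  show fromBlocks g 0 0 h * fromBlocks g' 0 0 h' = fromBlocks (g * g') 0 0 (h * h')
  rw [fromBlocks_multiply]
  simp

theorem ya_seven : ya ^ 7 = 1 := by
  apply Subtype.ext
  have h : ya ^ 7 = ya * (ya * (ya * (ya * (ya * (ya * ya))))) := by simp only [pow_succ', pow_zero, mul_one]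
  rw [h]
  show fromBlocks ym 0 0 ym' * (fromBlocks ym 0 0 ym' * (fromBlocks ym 0 0 ym' * (fromBlocks ym 0 0 ym' *
    (fromBlocks ym 0 0 ym' * (fromBlocks ym 0 0 ym' * fromBlocks ym 0 0 ym'))))) = 1
  simp only [fromBlocks_multiply, Matrix.mul_zero, Matrix.zero_mul, add_zero, zero_add]
  rw [ym_seven, ym'_seven]
  exact fromBlocks_one

end Cfsg.Agent.H84.EP
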