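import Cfsg.Agent.H84.EP.Lift
import Cfsg.Agent.H84.EP.CombE

/-!
# S3499, `Sp₆(2)` in the projective orthogonal groups : the commuting case (helper84)
-/

set_option autoImplicit false

namespace Cfsg.Agent.H84.EP

open Cfsg Cfsg.Geo Matrix Subgroup Cfsg.Agent.SporRec.TwoSp6.Sp Cfsg.Agent.H284 Cfsg.Agent.H419.EP
open scoped MatrixGroups commutatorElement

section norm

variable {Q : Type*} [Group Q] {A : Subgroup Q} {F : Type*} [Field F] {ι : Type} [Fintype ι] [DecidableEq ι]
  {Qf : (ι → F) → F} {m : Model Q (omegaGL Qf)} {e : S ≃* A}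

/-- a lift of order 7 of `ya` -/
theorem exists_y (hQ : IsNondegenerateQuadraticForm Qf) (hι : 0 < Fintype.card ι) :
    ∃ y : GL ι F, Lf m e y ya ∧ y ^ 7 = 1 := by
  obtain ⟨g, hg⟩ := exists_lf m e ya
  refine ⟨g ^ 8, ?_, ?_⟩
  · have h1 := hg.pow 8
    have h2 : ya ^ 8 = ya := by rw [pow_succ, ya_seven, one_mul]
    rwa [h2] at h1
  · have h1 := hg.pow 7
    rw [ya_seven] at h1
    have h2 : (g ^ 8) ^ 7 = (g ^ 7) ^ 8 := by rw [← pow_mul, ← pow_mul]
    rw [h2]
    rcases h1.one_or hQ hι with h3 | h3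
    · rw [h3, one_pow]
    · rw [h3]
      simp [pow_succ]

/-- normalised lifts -/
theorem exists_norm (hQ : IsNondegenerateQuadraticForm Qf) (hι : 0 < Fintype.card ι) :
    ∃ (y : GL ι F) (t : Fin 7 → GL ι F), Lf m e y ya ∧ y ^ 7 = 1 ∧ (∀ i, Lf m e (t i) (tr (pt i))) ∧ (∀ i, y * t i = t (yp i) * y) ∧
      t 6 * (t 2 * (t 4 * (t 5 * (t 0 * (t 1 * t 3))))) = 1 := by
  obtain ⟨y, hy, hy7⟩ := exists_y (m := m) (e := e) hQ hι
  have hyn : ∀ n, y ^ n = y ^ (n % 7) := fun n => pow_eq_pow_mod n hy7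
  have key : ∀ u : GL ι F, Lf m e u (tr (pt 0)) → ∃ t : Fin 7 → GL ι F, (∀ i, t i = y ^ pos i * u * (y ^ pos i)⁻¹) ∧
      (∀ i, Lf m e (t i) (tr (pt i))) ∧ ∀ i, y * t i = t (yp i) * y := by
    intro u hu
    refine ⟨fun i => y ^ pos i * u * (y ^ pos i)⁻¹, fun i => rfl, fun i => ?_, fun i => ?_⟩
    · have h1 := (hy.pow (pos i)).conj hu
      rwa [conj_tr, ya_pow_act, pos_spec] at h1
    · show y * (y ^ pos i * u * (y ^ pos i)⁻¹) = y ^ pos (yp i) * u * (y ^ pos (yp i))⁻¹ * y
      rw [pos_yp, ← hyn, pow_succ']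
      group
  obtain ⟨u, hu⟩ := exists_lf m e (tr (pt 0))
  obtain ⟨t, ht, h1, h2⟩ := key u hu
  rcases prod_pm hQ hι h1 with h3 | h3
  · exact ⟨y, t, hy, hy7, h1, h2, h3⟩
  · have hm1 : Lf m e (-1 : GL ι F) 1 := by
      rw [← h3]
      have h4 := (h1 6).mul ((h1 2).mul ((h1 4).mul ((h1 5).mul ((h1 0).mul ((h1 1).mul (h1 3))))))
      have e1 : tr (pt 6) * (tr (pt 2) * (tr (pt 4) * (tr (pt 5) * (tr (pt 0) * (tr (pt 1) * tr (pt 3)))))) = 1 := by
        rw [← fano_prod]
        simp [fano, pt]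
      rwa [e1] at h4
    have hu' : Lf m e (-u) (tr (pt 0)) := by
      have := hm1.mul hu
      rwa [neg_one_mul, one_mul] at this
    obtain ⟨t', ht', h1', h2'⟩ := key (-u) hu'
    have h5 : ∀ i, t' i = -t i := by
      intro i
      rw [ht', ht]
      simp
    refine ⟨y, t', hy, hy7, h1', h2', ?_⟩
    simp only [h5, neg_mul, mul_neg, neg_neg, h3]

theorem comm_sq (h2 : (2 : F) ≠ 0) [Nonempty ι] (hQ : IsNondegenerateQuadraticForm Qf) (hι : 0 < Fintype.card ι)
    {t : Fin 7 → GL ι F} (ht : ∀ i, Lf m e (t i) (tr (pt i))) (hc : ∀ i j, Commute (t i) (t j))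
    (hP : t 6 * (t 2 * (t 4 * (t 5 * (t 0 * (t 1 * t 3))))) = 1) (i : Fin 7) : t i * t i = 1 := by
  have h1 : t 3 * t 3 = 1 ∨ t 3 * t 3 = -1 := by
    refine Lf.one_or hQ hι (m := m) (e := e) ?_
    have := (ht 3).mul (ht 3)
    rwa [tr_sq] at this
  rcases h1 with h1 | h1
  · exact sq_const hQ hι ht 3 i (Or.inl rfl) h1
  · exfalso
    have hsq : ∀ i, t i * t i = -1 := fun i => sq_const hQ hι ht 3 i (Or.inr rfl) h1
    have h3 := congrArg (fun g => g * g) hP
    simp only [mul_one] at h3
    have c1 := hc 1 3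
    have c0 := (hc 0 1).mul_right (hc 0 3)
    have c5 := (hc 5 0).mul_right ((hc 5 1).mul_right (hc 5 3))
    have c4 := (hc 4 5).mul_right ((hc 4 0).mul_right ((hc 4 1).mul_right (hc 4 3)))
    have c2 := (hc 2 4).mul_right ((hc 2 5).mul_right ((hc 2 0).mul_right ((hc 2 1).mul_right (hc 2 3))))
    have c6 := (hc 6 2).mul_right ((hc 6 4).mul_right ((hc 6 5).mul_right ((hc 6 0).mul_right ((hc 6 1).mul_right (hc 6 3)))))
    rw [← sq, c6.mul_pow, c2.mul_pow, c4.mul_pow, c5.mul_pow, c0.mul_pow, c1.mul_pow] at h3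
    simp only [sq, hsq, mul_neg, neg_neg, mul_one] at h3
    have h4 := congrArg (fun g : GL ι F => (g : Matrix ι ι F)) h3
    simp only [Units.val_neg, Units.val_one] at h4
    obtain ⟨i⟩ := ‹Nonempty ι›
    have h5 := congrFun (congrFun h4 i) i
    simp at h5
    exact neg_one_ne h2 h5

end norm

section weights

variable {F : Type*} [Field F] {ι : Type} [Fintype ι] [DecidableEq ι] {t : Fin 7 → GL ι F}

/-- `v` has weight `ε` -/
def Wtt (t : Fin 7 → GL ι F) (ε : Fin 7 → Bool) (v : ι → F) : Prop := ∀ i, av (t i) v = sg F (ε i) • v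

theorem wtt_yinv {y : GL ι F} (hy : ∀ i, y * t i = t (yp i) * y) {ε : Fin 7 → Bool} {v : ι → F} (h : Wtt t ε v) :
    Wtt t (ε ∘ yp) (av y⁻¹ v) := by
  intro i
  have h1 : t i * y⁻¹ = y⁻¹ * t (yp i) := by
    rw [eq_inv_mul_iff_mul_eq, ← mul_assoc, hy, mul_inv_cancel_right]
  rw [← av_mul, h1, av_mul, h, av_smul]
  rfl

theorem wtt_iter {y : GL ι F} (hy : ∀ i, y * t i = t (yp i) * y) {ε : Fin 7 → Bool} {v : ι → F} (h : Wtt t ε v) (n : ℕ) :
    Wtt t (ε ∘ yp^[n]) (av (y⁻¹ ^ n) v) := by
  induction n with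
  | zero =>
    rw [pow_zero, av_one]
    exact h
  | succ n ih =>
    have h1 := wtt_yinv hy ih
    rw [← av_mul, ← pow_succ'] at h1
    exact h1

/-- the parity of a weight -/
theorem wtt_par (h2 : (2 : F) ≠ 0) (hP : t 6 * (t 2 * (t 4 * (t 5 * (t 0 * (t 1 * t 3))))) = 1) {ε : Fin 7 → Bool}
    {v : ι → F} (hv : v ≠ 0) (h : Wtt t ε v) : par ε = false := by
  have h1 := congrArg (fun g => av g v) hP
  simp only [av_mul, h _, av_smul, smul_smul, av_one] at h1
  have h3 : sg F (par ε) = 1 := by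
    have h4 : (sg F (par ε) - 1) • v = 0 := by
      rw [sub_smul, one_smul, sub_eq_zero]
      rw [← h1]
      congr 1
      unfold par
      simp only [sg_xor]
      ring
    rcases smul_eq_zero.1 h4 with h5 | h5
    · exact sub_eq_zero.1 h5
    · exact absurd h5 hv
  exact sg_inj h2 (b := false) (by rw [h3]; simp [sg])

/-- the weight vectors span the space -/
theorem span_wtt (h2 : (2 : F) ≠ 0) (hc : ∀ i j, Commute (t i) (t j)) (hsq : ∀ i, t i * t i = 1) :
    Submodule.span F {w : ι → F | ∃ ε, Wtt t ε w} = ⊤ := by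
  have key : ∀ n : ℕ, Submodule.span F {w : ι → F | ∀ i : Fin 7, i.val < n → ∃ b, av (t i) w = sg F b • w} = ⊤ := by
    intro n
    induction n with
    | zero =>
      rw [eq_top_iff]
      intro u _
      exact Submodule.subset_span fun i hi => absurd hi (Nat.not_lt_zero _)
    | succ n ih =>
      rw [eq_top_iff, ← ih, Submodule.span_le]
      intro w hw
      by_cases hn : n < 7
      · have hcw : ∀ (i : Fin 7) (b : Bool), av (t i) w = sg F b • w → ∀ c : Bool,
            av (t i) (w + sg F c • av (t ⟨n, hn⟩) w) = sg F b • (w + sg F c • av (t ⟨n, hn⟩) w) := by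
          intro i b hb c
          have h3 : av (t i) (av (t ⟨n, hn⟩) w) = av (t ⟨n, hn⟩) (av (t i) w) := by
            rw [← av_mul, ← av_mul, (hc i ⟨n, hn⟩).eq]
          rw [av_add, av_smul, h3, hb, av_smul, smul_add, smul_comm]
        have hmem : ∀ c : Bool, (w + sg F c • av (t ⟨n, hn⟩) w) ∈
            {w : ι → F | ∀ i : Fin 7, i.val < n + 1 → ∃ b, av (t i) w = sg F b • w} := by
          intro c i hi
          rcases Nat.lt_succ_iff_lt_or_eq.1 hi with h3 | h3
          · obtain ⟨b, hb⟩ := hw i h3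
            exact ⟨b, hcw i b hb c⟩
          · have h4 : i = ⟨n, hn⟩ := Fin.ext h3
            refine ⟨c, ?_⟩
            rw [h4, av_add, av_smul, ← av_mul, hsq, av_one, smul_add, smul_smul, sg_mul_self, one_smul, add_comm]
        have h3 : w = (2 : F)⁻¹ • ((w + sg F false • av (t ⟨n, hn⟩) w) + (w + sg F true • av (t ⟨n, hn⟩) w)) := by
          have h4 : (w + sg F false • av (t ⟨n, hn⟩) w) + (w + sg F true • av (t ⟨n, hn⟩) w) = (2 : F) • w := by
            simp only [sg, Bool.false_eq_true, if_false, if_true]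
            module
          rw [h4, smul_smul, inv_mul_cancel₀ h2, one_smul]
        rw [h3]
        exact Submodule.smul_mem _ _ (Submodule.add_mem _ (Submodule.subset_span (hmem false))
          (Submodule.subset_span (hmem true)))
      · exact Submodule.subset_span fun i _ => hw i (by omega)
  rw [eq_top_iff, ← key 7]
  apply Submodule.span_mono
  intro w hw
  choose ε hε using fun i : Fin 7 => hw i i.2
  exact ⟨ε, hε⟩

/-- the projections -/
def prt (t : Fin 7 → GL ι F) (ε : Fin 7 → Bool) : Matrix ι ι F :=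
  ((List.finRange 7).map fun i => 1 + sg F (ε i) • (t i : Matrix ι ι F)).prod

theorem prt_wt (ε : Fin 7 → Bool) {μ : Fin 7 → Bool} {u : ι → F} (h : Wtt t μ u) :
    prt t ε *ᵥ u = ((List.finRange 7).map fun i => 1 + sg F (ε i) * sg F (μ i)).prod • u := by
  unfold prt
  generalize List.finRange 7 = l
  induction l with
  | nil => simp
  | cons a l ih =>
    rw [List.map_cons, List.prod_cons, List.map_cons, List.prod_cons, ← Matrix.mulVec_mulVec, ih, Matrix.mulVec_smul,
      Matrix.add_mulVec, Matrix.one_mulVec, Matrix.smul_mulVec]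
    have h1 : (t a : Matrix ι ι F) *ᵥ u = sg F (μ a) • u := h a
    rw [h1]
    module

theorem prt_self {ε : Fin 7 → Bool} {u : ι → F} (h : Wtt t ε u) : prt t ε *ᵥ u = (2 ^ 7 : F) • u := by
  rw [prt_wt ε h]
  congr 1
  have : (fun i : Fin 7 => 1 + sg F (ε i) * sg F (ε i)) = fun _ => (2 : F) := by
    funext i
    rw [sg_mul_self]
    norm_num
  rw [this]
  simp
  ring

theorem prt_ne {ε μ : Fin 7 → Bool} {u : ι → F} (h : Wtt t μ u) (hne : ε ≠ μ) : prt t ε *ᵥ u = 0 := by
  rw [prt_wt ε h]
  obtain ⟨i, hi⟩ := Function.ne_iff.1 hne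
  have h1 : ((List.finRange 7).map fun i => 1 + sg F (ε i) * sg F (μ i)).prod = 0 := by
    rw [List.prod_eq_zero_iff, List.mem_map]
    exact ⟨i, List.mem_finRange i, by rw [sg_mul_ne hi, add_neg_cancel]⟩
  rw [h1, zero_smul]

/-- vectors of distinct weights are independent -/
theorem li_of_wtt {κ : Type*} [Fintype κ] (h2 : (2 : F) ≠ 0) {u : κ → (ι → F)} {μ : κ → Fin 7 → Bool} (hu : ∀ j, u j ≠ 0)
    (hw : ∀ j, Wtt t (μ j) (u j)) (hμ : Function.Injective μ) : LinearIndependent F u := by
  rw [Fintype.linearIndependent_iff]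
  intro c hc j
  have h1 := congrArg (fun w => prt t (μ j) *ᵥ w) hc
  simp only [Matrix.mulVec_zero] at h1
  rw [Matrix.mulVec_sum, Finset.sum_eq_single j] at h1
  · rw [Matrix.mulVec_smul, prt_self (hw j), smul_smul] at h1
    rcases smul_eq_zero.1 h1 with h3 | h3
    · rcases mul_eq_zero.1 h3 with h4 | h4
      · exact h4
      · exact absurd h4 (pow_ne_zero _ h2)
    · exact absurd h3 (hu j)
  · intro k _ hk
    rw [Matrix.mulVec_smul, prt_ne (hw k) (fun h => hk (hμ h).symm), smul_zero]
  · intro h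
    exact absurd (Finset.mem_univ j) h

/-- a weight vector in the span of weight vectors -/
theorem wtt_of_span (h2 : (2 : F) ≠ 0) {κ : Type*} {u : κ → (ι → F)} {μ : κ → Fin 7 → Bool}
    (hw : ∀ j, Wtt t (μ j) (u j)) {v : ι → F} (hv : v ∈ Submodule.span F (Set.range u)) (hv0 : v ≠ 0)
    {ν : Fin 7 → Bool} (hν : Wtt t ν v) : ∃ j, ν = μ j := by
  by_contra hcon
  push Not at hcon
  have h1 : prt t ν *ᵥ v = 0 := by
    clear hν hv0
    induction hv using Submodule.span_induction with
    | mem x hx =>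
      obtain ⟨j, rfl⟩ := hx
      exact prt_ne (hw j) (hcon j)
    | zero => exact Matrix.mulVec_zero _
    | add x y _ _ hx hy => rw [Matrix.mulVec_add, hx, hy, add_zero]
    | smul c x _ hx => rw [Matrix.mulVec_smul, hx, smul_zero]
  rw [prt_self hν] at h1
  rcases smul_eq_zero.1 h1 with h4 | h4
  · exact absurd h4 (pow_ne_zero _ h2)
  · exact hv0 h4

/-- **the eight weights** -/
theorem exists_eight (h2 : (2 : F) ≠ 0) (hι : Fintype.card ι = 8) (hc : ∀ i j, Commute (t i) (t j))
    (hsq : ∀ i, t i * t i = 1) {y : GL ι F} (hy7 : y ^ 7 = 1) (hy : ∀ i, y * t i = t (yp i) * y)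
    (hP : t 6 * (t 2 * (t 4 * (t 5 * (t 0 * (t 1 * t 3))))) = 1) (h01 : t 0 ≠ t 1) :
    ∃ (ε : Fin 7 → Bool) (w v : ι → F), ε 0 ≠ ε 1 ∧ par ε = false ∧ w ≠ 0 ∧ Wtt t ε w ∧ v ≠ 0 ∧
      Wtt t (fun _ => false) v ∧
      Submodule.span F (Set.range (fun b : Fin 8 => if b.val = 0 then v else av (y⁻¹ ^ (b.val - 1)) w)) = ⊤ := by
  have hspan := span_wtt h2 hc hsq
  -- a nonconstant weight
  obtain ⟨w, hw0, ε, hε, hε01⟩ : ∃ w : ι → F, w ≠ 0 ∧ ∃ ε, Wtt t ε w ∧ ε 0 ≠ ε 1 := by
    by_contra hcon
    push Not at hcon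
    apply h01
    refine av_ext fun u => ?_
    have hu : u ∈ Submodule.span F {w : ι → F | ∃ ε, Wtt t ε w} := by rw [hspan]; trivial
    induction hu using Submodule.span_induction with
    | mem x hx =>
      obtain ⟨ε, hε⟩ := hx
      by_cases hx0 : x = 0
      · rw [hx0, av_zero, av_zero]
      · rw [hε, hε, hcon x hx0 ε hε]
    | zero => rw [av_zero, av_zero]
    | add x y _ _ hx hy => rw [av_add, av_add, hx, hy]
    | smul c x _ hx => rw [av_smul, av_smul, hx]
  have hpar := wtt_par h2 hP hw0 hε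
  let W : Fin 7 → (ι → F) := fun j => av (y⁻¹ ^ j.val) w
  have hW0 : ∀ j, W j ≠ 0 := fun j => av_ne _ hw0
  have hWw : ∀ j : Fin 7, Wtt t (ε ∘ yp^[j.val]) (W j) := fun j => wtt_iter hy hε j.val
  -- the orbit spans a proper subspace
  set U := Submodule.span F (Set.range W) with hU
  have hUne : U ≠ ⊤ := by
    intro h
    have h3 := finrank_range_le_card (R := F) W
    rw [Set.finrank, ← hU, h, finrank_top, Module.finrank_fintype_fun_eq_card, hι, Fintype.card_fin] at h3
    omega
  obtain ⟨v, hvU, μ, hμ⟩ : ∃ v : ι → F, v ∉ U ∧ ∃ μ, Wtt t μ v := by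
    by_contra hcon
    push Not at hcon
    apply hUne
    rw [eq_top_iff, ← hspan, Submodule.span_le]
    rintro v ⟨μ, hμ⟩
    by_contra hv
    exact hcon v hv μ hμ
  have hv0 : v ≠ 0 := by
    rintro rfl
    exact hvU U.zero_mem
  -- invariance of `U`
  have hyi7 : y⁻¹ ^ 7 = 1 := by rw [inv_pow, hy7, inv_one]
  have hUy : ∀ u ∈ U, av y u ∈ U := by
    intro u hu
    induction hu using Submodule.span_induction with
    | mem x hx =>
      obtain ⟨j, rfl⟩ := hx
      have h3 : av y (W j) = W ⟨(6 + j.val) % 7, Nat.mod_lt _ (by norm_num)⟩ := by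
        show av y (av (y⁻¹ ^ j.val) w) = av (y⁻¹ ^ ((6 + j.val) % 7)) w
        rw [← pow_eq_pow_mod _ hyi7, ← av_mul]
        congr 1
        have h4 : y = y⁻¹ ^ 6 := by
          rw [eq_comm, ← mul_inv_eq_one, ← pow_succ, hyi7]
        rw [pow_add, ← h4]
      rw [h3]
      exact Submodule.subset_span ⟨_, rfl⟩
    | zero => rw [av_zero]; exact U.zero_mem
    | add x z _ _ hx hz => rw [av_add]; exact U.add_mem hx hz
    | smul c x _ hx => rw [av_smul]; exact U.smul_mem c hx
  -- the weight of `v` is invariant under `yp`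
  have hWli : LinearIndependent F W := li_of_wtt h2 hW0 hWw (by
    intro j j' hj
    have h3 := comb1' ε hε01 hpar ⟨j.val + 1, by omega⟩ ⟨j'.val + 1, by omega⟩ (fun i => by
      unfold wt8
      simp only [Nat.add_eq_zero_iff, one_ne_zero, and_false, if_false, Nat.add_sub_cancel]
      exact congrFun hj i)
    apply Fin.ext
    have h4 := congrArg Fin.val h3
    simp only at h4
    omega)
  have hBli : LinearIndependent F (fun o : Option (Fin 7) => Option.casesOn' o v W) := hWli.option hvU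
  have hBspan : Submodule.span F (Set.range (fun o : Option (Fin 7) => Option.casesOn' o v W)) = ⊤ := by
    apply hBli.span_eq_top_of_card_eq_finrank'
    rw [Fintype.card_option, Fintype.card_fin, Module.finrank_fintype_fun_eq_card, hι]
  have hprt : ∀ ν : Fin 7 → Bool, ν ≠ μ → ∀ u : ι → F, prt t ν *ᵥ u ∈ U := by
    intro ν hν u
    have hu : u ∈ Submodule.span F (Set.range (fun o : Option (Fin 7) => Option.casesOn' o v W)) := by
      rw [hBspan]; trivial
    induction hu using Submodule.span_induction with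
    | mem x hx =>
      obtain ⟨o, rfl⟩ := hx
      cases o with
      | none =>
        show prt t ν *ᵥ v ∈ U
        rw [prt_ne hμ hν]
        exact U.zero_mem
      | some j =>
        show prt t ν *ᵥ W j ∈ U
        rw [prt_wt ν (hWw j)]
        exact U.smul_mem _ (Submodule.subset_span ⟨j, rfl⟩)
    | zero => rw [Matrix.mulVec_zero]; exact U.zero_mem
    | add x z _ _ hx hz => rw [Matrix.mulVec_add]; exact U.add_mem hx hz
    | smul c x _ hx => rw [Matrix.mulVec_smul]; exact U.smul_mem c hx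
  have hμyp : μ ∘ yp = μ := by
    by_contra hne
    apply hvU
    have h3 := hprt _ hne (av y⁻¹ v)
    rw [prt_self (wtt_yinv hy hμ)] at h3
    have h4 := U.smul_mem ((2 ^ 7 : F)⁻¹) h3
    rw [smul_smul, inv_mul_cancel₀ (pow_ne_zero _ h2), one_smul] at h4
    have h5 := hUy _ h4
    rwa [← av_mul, mul_inv_cancel, av_one] at h5
  have hμ0 : μ = fun _ => false := funext (comb6 μ (fun i => congrFun hμyp i) (wtt_par h2 hP hv0 hμ))
  rw [hμ0] at hμ
  refine ⟨ε, w, v, hε01, hpar, hw0, hε, hv0, hμ, ?_⟩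
  have hli : LinearIndependent F (fun b : Fin 8 => if b.val = 0 then v else av (y⁻¹ ^ (b.val - 1)) w) := by
    refine li_of_wtt (t := t) h2 (μ := wt8 ε) (fun b => ?_) (fun b => ?_) (fun b b' hb => comb1' ε hε01 hpar b b' (congrFun hb))
    · split_ifs
      · exact hv0
      · exact av_ne _ hw0
    · by_cases hb : b.val = 0
      · rw [if_pos hb]
        have : wt8 ε b = fun _ => false := by
          funext i
          unfold wt8
          rw [if_pos hb]
        rw [this]
        exact hμ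
      · rw [if_neg hb]
        have : wt8 ε b = ε ∘ yp^[b.val - 1] := by
          funext i
          unfold wt8
          rw [if_neg hb]
          rfl
        rw [this]
        exact wtt_iter hy hε _
  apply hli.span_eq_top_of_card_eq_finrank'
  rw [Fintype.card_fin, Module.finrank_fintype_fun_eq_card, hι]

/-- the family of eight weight vectors -/
theorem wtt_fam {y : GL ι F} (hy : ∀ i, y * t i = t (yp i) * y) {ε : Fin 7 → Bool} {w v : ι → F} (hw : Wtt t ε w)
    (hv : Wtt t (fun _ => false) v) (b : Fin 8) :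
    Wtt t (wt8 ε b) (if b.val = 0 then v else av (y⁻¹ ^ (b.val - 1)) w) := by
  by_cases hb : b.val = 0
  · rw [if_pos hb]
    have : wt8 ε b = fun _ => false := by
      funext i
      unfold wt8
      rw [if_pos hb]
    rw [this]
    exact hv
  · rw [if_neg hb]
    have : wt8 ε b = ε ∘ yp^[b.val - 1] := by
      funext i
      unfold wt8
      rw [if_neg hb]
      rfl
    rw [this]
    exact wtt_iter hy hw _

end weights

section frame8

variable {F : Type*} [Field F] {ι : Type} [Fintype ι] [DecidableEq ι] {Qf : (ι → F) → F} {κ : Type*}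

/-- existence of the permutation matrices in a frame -/
theorem exists_R' {v : κ → (ι → F)} (hli : LinearIndependent F v) (hspan : Submodule.span F (Set.range v) = ⊤)
    (σ : Equiv.Perm κ) : ∃ g : GL ι F, ∀ i, av g (v i) = v (σ i) := by
  let b : Module.Basis κ F (ι → F) := Module.Basis.mk hli (by rw [hspan])
  have hb : ∀ i, b i = v i := fun i => Module.Basis.mk_apply _ _ _
  let L : (ι → F) ≃ₗ[F] (ι → F) := b.equiv b σ
  have hL : ∀ i, L (v i) = v (σ i) := by
    intro i
    rw [← hb, ← hb]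
    exact Module.Basis.equiv_apply _ _ _ _
  have h1 : LinearMap.toMatrix' L.toLinearMap * LinearMap.toMatrix' L.symm.toLinearMap = 1 := by
    rw [← LinearMap.toMatrix'_comp, LinearEquiv.comp_coe, L.symm_trans_self]
    exact LinearMap.toMatrix'_id
  have h2 : LinearMap.toMatrix' L.symm.toLinearMap * LinearMap.toMatrix' L.toLinearMap = 1 := by
    rw [← LinearMap.toMatrix'_comp, LinearEquiv.comp_coe, L.self_trans_symm]
    exact LinearMap.toMatrix'_id
  refine ⟨⟨LinearMap.toMatrix' L.toLinearMap, LinearMap.toMatrix' L.symm.toLinearMap, h1, h2⟩, fun i => ?_⟩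
  show LinearMap.toMatrix' L.toLinearMap *ᵥ v i = _
  rw [LinearMap.toMatrix'_mulVec]
  exact hL i

theorem frame_ext' {v : κ → (ι → F)} (hspan : Submodule.span F (Set.range v) = ⊤) {g h : GL ι F}
    (H : ∀ i, av g (v i) = av h (v i)) : g = h := by
  refine av_ext fun w => ?_
  have hw : w ∈ Submodule.span F (Set.range v) := by rw [hspan]; trivial
  induction hw using Submodule.span_induction with
  | mem x hx =>
    obtain ⟨j, rfl⟩ := hx
    exact H j
  | zero => rw [av_zero, av_zero]
  | add x y _ _ hx hy => rw [av_add, av_add, hx, hy]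
  | smul c x _ hx => rw [av_smul, av_smul, hx]

/-- permutation matrices in an orthogonal frame -/
theorem iso_of_perm' (h2 : (2 : F) ≠ 0) (hQ : IsNondegenerateQuadraticForm Qf) {v : κ → (ι → F)}
    (hspan : Submodule.span F (Set.range v) = ⊤) (horth : ∀ i j, i ≠ j → QuadraticMap.polar Qf (v i) (v j) = 0)
    {g : GL ι F} {σ : κ → κ} (hσ : Function.Injective σ) (hnorm : ∀ i, Qf (v (σ i)) = Qf (v i))
    (hg : ∀ i, av g (v i) = v (σ i)) : g ∈ isometryGroup F Qf := by
  have hB := hQ.polar_bilinear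
  have hz : ∀ u, QuadraticMap.polar Qf u 0 = 0 := by
    intro u
    have := hB.smul_right 0 u 0
    rwa [zero_smul, zero_mul] at this
  have hz' : ∀ u, QuadraticMap.polar Qf 0 u = 0 := by
    intro u
    have := hB.smul_left 0 0 u
    rwa [zero_smul, zero_mul] at this
  have h1 : ∀ i j, QuadraticMap.polar Qf (v (σ i)) (v (σ j)) = QuadraticMap.polar Qf (v i) (v j) := by
    intro i j
    by_cases hij : i = j
    · rw [hij, polar_self hQ, polar_self hQ, hnorm j]
    · rw [horth i j hij, horth _ _ (fun h => hij (hσ h))]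
  have h3 : ∀ i w, QuadraticMap.polar Qf (av g (v i)) (av g w) = QuadraticMap.polar Qf (v i) w := by
    intro i w
    have hw : w ∈ Submodule.span F (Set.range v) := by rw [hspan]; trivial
    induction hw using Submodule.span_induction with
    | mem x hx =>
      obtain ⟨j, rfl⟩ := hx
      rw [hg, hg, h1]
    | zero => rw [av_zero, hz, hz]
    | add x y _ _ hx hy => rw [av_add, hB.add_right, hB.add_right, hx, hy]
    | smul c x _ hx => rw [av_smul, hB.smul_right, hB.smul_right, hx]
  have h4 : ∀ u w, QuadraticMap.polar Qf (av g u) (av g w) = QuadraticMap.polar Qf u w := by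
    intro u w
    have hu : u ∈ Submodule.span F (Set.range v) := by rw [hspan]; trivial
    induction hu using Submodule.span_induction with
    | mem x hx =>
      obtain ⟨j, rfl⟩ := hx
      exact h3 j w
    | zero => rw [av_zero, hz', hz']
    | add x y _ _ hx hy => rw [av_add, hB.add_left, hB.add_left, hx, hy]
    | smul c x _ hx => rw [av_smul, hB.smul_left, hB.smul_left, hx]
  rw [mem_iso]
  intro w
  have h5 := h4 w w
  rw [polar_self hQ, polar_self hQ] at h5
  exact mul_left_cancel₀ h2 h5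

end frame8

section main

variable {Q : Type*} [Group Q] {A : Subgroup Q} {F : Type*} [Field F] {ι : Type} [Fintype ι] [DecidableEq ι]
  {Qf : (ι → F) → F} {m : Model Q (omegaGL Qf)} {e : S ≃* A} {t : Fin 7 → GL ι F}

/-- the signs of a lift -/
theorem exists_eta (hQ : IsNondegenerateQuadraticForm Qf) (hι : 0 < Fintype.card ι) (ht : ∀ i, Lf m e (t i) (tr (pt i)))
    {g : GL ι F} {k : Fin 3} (hg : Lf m e g (ga k)) :
    ∃ η : Fin 7 → Bool, ∀ i u, av (t (gp k i)) (av g u) = sg F (η i) • av g (av (t i) u) := by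
  have key : ∀ i, ∃ b : Bool, ∀ u, av (t (gp k i)) (av g u) = sg F b • av g (av (t i) u) := by
    intro i
    have h1 := hg.conj (ht i)
    rw [ga_conj] at h1
    rcases h1.pm hQ hι (ht (gp k i)) with h3 | h3
    · refine ⟨false, fun u => ?_⟩
      rw [← h3, ← av_mul, ← av_mul, inv_mul_cancel_right]
      simp [sg]
    · refine ⟨true, fun u => ?_⟩
      have h4 : t (gp k i) * g = -(g * t i) := by
        rw [← neg_eq_iff_eq_neg.2 h3, neg_mul, inv_mul_cancel_right]
      rw [← av_mul, h4, ← av_mul]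
      unfold av
      rw [Units.val_neg, Matrix.neg_mulVec]
      simp [sg]
  choose η hη using key
  exact ⟨η, hη⟩

/-- **the commuting case** -/
theorem case_comm (h2 : (2 : F) ≠ 0) (hι : Fintype.card ι = 8) (hQ : IsNondegenerateQuadraticForm Qf)
    (ht : ∀ i, Lf m e (t i) (tr (pt i))) (hc : ∀ i j, Commute (t i) (t j)) {y : GL ι F} (hy7 : y ^ 7 = 1)
    (hyO : y ∈ isometryGroup F Qf) (hy : ∀ i, y * t i = t (yp i) * y)
    (hP : t 6 * (t 2 * (t 4 * (t 5 * (t 0 * (t 1 * t 3))))) = 1) :
    ∃ z : Q, ∀ i, z * (e (tr (pt i)) : Q) * z⁻¹ = e (tr (pt (cyc i))) := by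
  have hι0 : 0 < Fintype.card ι := by omega
  have hne : Nonempty ι := Fintype.card_pos_iff.1 hι0
  have hsq := fun i => comm_sq h2 hQ hι0 ht hc hP i
  have h01 : t 0 ≠ t 1 := by
    intro h
    have h1 := ht 0
    rw [h] at h1
    have h3 := h1.eq (ht 1)
    exact absurd (pt_inj (tr_inj (pt_ne 0) h3)) (by decide)
  obtain ⟨ε, w, v, hε01, hpar, hw0, hε, hv0, hv, hspan⟩ := exists_eight h2 hι hc hsq hy7 hy hP h01
  have hfam := fun b => wtt_fam hy hε hv b
  have hfam0 : ∀ b : Fin 8, (if b.val = 0 then v else av (y⁻¹ ^ (b.val - 1)) w) ≠ 0 := by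
    intro b
    split_ifs
    · exact hv0
    · exact av_ne _ hw0
  rcases comb2' ε hε01 hpar (by
    intro k
    obtain ⟨g, hg⟩ := exists_lf m e (ga k)
    obtain ⟨η, hη⟩ := exists_eta hQ hι0 ht hg
    -- the weight of `g u`
    have hgw : ∀ (u : ι → F) (μ : Fin 7 → Bool), Wtt t μ u → Wtt t (fun i => xor (η (gp k i)) (μ (gp k i))) (av g u) := by
      intro u μ hu i
      have h3 := hη (gp k i) u
      rw [gp_inv, hu, av_smul, smul_smul, ← sg_xor] at h3
      exact h3
    obtain ⟨a, ha⟩ := wtt_of_span h2 hfam (v := av g v) (by rw [hspan]; trivial) (av_ne _ hv0) (hgw v _ hv)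
    refine ⟨a, fun b => ?_⟩
    obtain ⟨c, hc'⟩ := wtt_of_span h2 hfam (by rw [hspan]; trivial) (av_ne g (hfam0 b)) (hgw _ _ (hfam b))
    refine ⟨c, fun i => ?_⟩
    rw [← congrFun ha i, ← congrFun hc' i]
    simp) with ⟨i0, hi0⟩ | hline
  · choose n hn using comb3 i0
    let f : Option (Fin 7) → (ι → F) := fun o => o.elim v (fun i => av (y⁻¹ ^ (n i).val) w)
    have hf0 : ∀ a, f a ≠ 0 := by
      intro a
      cases a with
      | none => exact hv0
      | some i => exact av_ne _ hw0
    have hfw : ∀ a, Wtt t (wo a) (f a) := by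
      intro a
      cases a with
      | none => exact hv
      | some i =>
        have h1 : wo (some i) = ε ∘ yp^[(n i).val] := by
          funext j
          show (!decide (j = i)) = ε (yp^[(n i).val] j)
          rw [hi0]
          congr 1
          rw [decide_eq_decide]
          constructor
          · rintro rfl
            exact hn j
          · intro h
            exact yp_iter_inj _ (h.trans (hn i).symm)
        rw [h1]
        exact wtt_iter hy hε _
    have hfli : LinearIndependent F f := li_of_wtt h2 hf0 hfw wo_inj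
    have hfspan : Submodule.span F (Set.range f) = ⊤ := by
      apply hfli.span_eq_top_of_card_eq_finrank'
      rw [Fintype.card_option, Fintype.card_fin, Module.finrank_fintype_fun_eq_card, hι]
    have hB := hQ.polar_bilinear
    have horth : ∀ a b, a ≠ b → QuadraticMap.polar Qf (f a) (f b) = 0 := by
      intro a b hab
      obtain ⟨j, hj⟩ := wo_ne a b hab
      have h3 := polar_av (iso_of_omega (ht j).1) (f a) (f b)
      rw [hfw a j, hfw b j, hB.smul_left, hB.smul_right, ← mul_assoc, sg_mul_ne hj] at h3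
      have h6 : (2 : F) * QuadraticMap.polar Qf (f a) (f b) = 0 := by linear_combination -h3
      exact (mul_eq_zero.1 h6).resolve_left h2
    have hyi : ∀ k : ℕ, y⁻¹ ^ k ∈ isometryGroup F Qf := fun k => pow_mem (inv_mem hyO) k
    have hnorm : ∀ τ : Equiv.Perm (Fin 7), ∀ a, Qf (f (Equiv.optionCongr τ a)) = Qf (f a) := by
      intro τ a
      cases a with
      | none => rfl
      | some i =>
        show Qf (av (y⁻¹ ^ (n (τ i)).val) w) = Qf (av (y⁻¹ ^ (n i).val) w)
        rw [mem_iso.1 (hyi _), mem_iso.1 (hyi _)]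
    obtain ⟨R, hR⟩ := exists_R' hfli hfspan (Equiv.optionCongr (Equiv.swap 2 4))
    obtain ⟨R', hR'⟩ := exists_R' hfli hfspan (Equiv.optionCongr (Equiv.swap 2 5))
    have hRi : R ∈ isometryGroup F Qf := iso_of_perm' h2 hQ hfspan horth (Equiv.injective _) (hnorm _) hR
    have hRi' : R' ∈ isometryGroup F Qf := iso_of_perm' h2 hQ hfspan horth (Equiv.injective _) (hnorm _) hR'
    have hinv : ∀ {g : GL ι F} {σ τ : Option (Fin 7) → Option (Fin 7)}, (∀ i, av g (f i) = f (σ i)) →
        (∀ i, σ (τ i) = i) → ∀ i, av g⁻¹ (f i) = f (τ i) := by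
      intro g σ τ hg hst i
      apply av_inj g
      rw [← av_mul, mul_inv_cancel, av_one, hg, hst]
    have hRn : ∀ i, av R⁻¹ (f i) = f (Equiv.optionCongr (Equiv.swap 2 4) i) := hinv hR (by decide +kernel)
    have hRn' : ∀ i, av R'⁻¹ (f i) = f (Equiv.optionCongr (Equiv.swap 2 5) i) := hinv hR' (by decide +kernel)
    have hxv : ∀ a, av ⁅R, R'⁆ (f a) = f (a.map cyc) := by
      intro a
      rw [commutatorElement_def, av_mul, av_mul, av_mul, hRn', hRn, hR', hR]
      congr 1
      revert a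
      decide +kernel
    have hxO : ⁅R, R'⁆ ∈ omegaGL Qf := by
      refine ⟨⁅(⟨R, hRi⟩ : isometryGroup F Qf), ⟨R', hRi'⟩⁆, ?_, rfl⟩
      exact Subgroup.commutator_mem_commutator (Subgroup.mem_top _) (Subgroup.mem_top _)
    refine to_Q ht hxO fun i => ?_
    apply frame_ext' hfspan
    intro a
    rw [av_mul, av_mul, hfw a i, av_smul, hxv, hfw (a.map cyc) (cyc i), wo_cyc]
  · exfalso
    have h3 : t 0 * (t 1 * t 2) = 1 := by
      apply frame_ext' hspan
      intro b
      rw [av_mul, av_mul, hfam b 2, av_smul, hfam b 1, av_smul, av_smul, hfam b 0, smul_smul, smul_smul, av_one]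
      have h5 := congrArg (sg F) (hline b)
      rw [sg_xor, sg_xor] at h5
      have h6 : sg F false = 1 := by simp [sg]
      rw [h6] at h5
      have h7 : sg F (wt8 ε b 2) * sg F (wt8 ε b 1) * sg F (wt8 ε b 0) = 1 := by
        rw [← h5]
        ring
      rw [h7, one_smul]
    have h4 := (ht 0).mul ((ht 1).mul (ht 2))
    rw [h3] at h4
    exact tr_line (h4.eq Lf.one)

end main

end Cfsg.Agent.H84.EP
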