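import Cfsg.Agent.H84.EP.Kill

/-!
# S3499, `Sp₆(2)` in the projective orthogonal groups : lifts, the anticommuting case (helper84)
-/

set_option autoImplicit false

namespace Cfsg.Agent.H84.EP

open Cfsg Cfsg.Geo Matrix Subgroup Cfsg.Agent.SporRec.TwoSp6.Sp Cfsg.Agent.H284 Cfsg.Agent.H419.EP
open scoped MatrixGroups commutatorElement

section lift

variable {Q : Type*} [Group Q] {A : Subgroup Q} {F : Type*} [Field F] {ι : Type} [Fintype ι] [DecidableEq ι]
  {Qf : (ι → F) → F} {m : Model Q (omegaGL Qf)} {e : S ≃* A}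

/-- `g` lifts `s` -/
def Lf (m : Model Q (omegaGL Qf)) (e : S ≃* A) (g : GL ι F) (s : S) : Prop :=
  ∃ hg : g ∈ omegaGL Qf, m.π ⟨g, hg⟩ = e s

theorem Lf.mul {g h : GL ι F} {s t : S} (h1 : Lf m e g s) (h2 : Lf m e h t) : Lf m e (g * h) (s * t) := by
  obtain ⟨h1, h3⟩ := h1
  obtain ⟨h2, h4⟩ := h2
  refine ⟨mul_mem h1 h2, ?_⟩
  rw [map_mul]
  show m.π (⟨g, h1⟩ * ⟨h, h2⟩) = _
  rw [map_mul, h3, h4]
  rfl

theorem Lf.inv {g : GL ι F} {s : S} (h1 : Lf m e g s) : Lf m e g⁻¹ s⁻¹ := by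
  obtain ⟨h1, h3⟩ := h1
  refine ⟨inv_mem h1, ?_⟩
  rw [map_inv]
  show m.π (⟨g, h1⟩⁻¹) = _
  rw [map_inv, h3]
  rfl

theorem Lf.one : Lf m e (1 : GL ι F) 1 := by
  refine ⟨one_mem _, ?_⟩
  rw [map_one]
  exact map_one m.π

theorem Lf.pow {g : GL ι F} {s : S} (h1 : Lf m e g s) (n : ℕ) : Lf m e (g ^ n) (s ^ n) := by
  induction n with
  | zero =>
    rw [pow_zero, pow_zero]
    exact Lf.one
  | succ n ih =>
    rw [pow_succ, pow_succ]
    exact ih.mul h1

theorem Lf.conj {g h : GL ι F} {s t : S} (h1 : Lf m e g s) (h2 : Lf m e h t) :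
    Lf m e (g * h * g⁻¹) (s * t * s⁻¹) := (h1.mul h2).mul h1.inv

variable (m e) in
theorem exists_lf (s : S) : ∃ g, Lf m e g s := by
  obtain ⟨⟨g, hg⟩, h⟩ := m.surj (e s)
  exact ⟨g, hg, h⟩

theorem Lf.eq {g : GL ι F} {s t : S} (h1 : Lf m e g s) (h2 : Lf m e g t) : s = t := by
  obtain ⟨h1, h3⟩ := h1
  obtain ⟨h2, h4⟩ := h2
  exact e.injective (Subtype.ext (h3.symm.trans h4))

theorem exists_Q_ne (hQ : IsNondegenerateQuadraticForm Qf) (hι : 0 < Fintype.card ι) : ∃ v, Qf v ≠ 0 := by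
  by_contra hcon
  push Not at hcon
  obtain ⟨i⟩ : Nonempty ι := Fintype.card_pos_iff.1 hι
  obtain ⟨⟨x, hx⟩, -⟩ := hQ.nondegenerate (Pi.single i 1) (by simp)
  apply hx
  unfold QuadraticMap.polar
  rw [hcon, hcon, hcon]
  simp

/-- the scalars in `Ω` -/
theorem Lf.one_or (hQ : IsNondegenerateQuadraticForm Qf) (hι : 0 < Fintype.card ι) {g : GL ι F} (h1 : Lf m e g 1) :
    g = 1 ∨ g = -1 := by
  obtain ⟨hg, h2⟩ := h1
  rw [map_one] at h2
  have h3 := (m.ker ⟨g, hg⟩).1 h2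
  rw [mem_scalars_iff] at h3
  obtain ⟨c, hc⟩ := h3
  obtain ⟨v, hv⟩ := exists_Q_ne hQ hι
  have h3 := mem_iso.1 (iso_of_omega hg) v
  have h4 : av g v = (c : F) • v := by
    unfold av
    have hc' : (g : Matrix ι ι F) = (c : F) • 1 := hc
    rw [hc', Matrix.smul_mulVec, Matrix.one_mulVec]
  rw [h4, hQ.smul] at h3
  have h5 : ((c : F) ^ 2 - 1) * Qf v = 0 := by rw [sub_mul, h3, one_mul, sub_self]
  have h6 : (c : F) ^ 2 = 1 := sub_eq_zero.1 ((mul_eq_zero.1 h5).resolve_right hv)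
  rcases mul_self_eq_one_iff.1 ((sq _).symm.trans h6) with h9 | h9
  · left
    apply Units.ext
    have hc' : (g : Matrix ι ι F) = (c : F) • 1 := hc
    rw [hc', h9, one_smul]
    rfl
  · right
    apply Units.ext
    have hc' : (g : Matrix ι ι F) = (c : F) • 1 := hc
    rw [hc', h9, Units.val_neg]
    simp

theorem Lf.pm (hQ : IsNondegenerateQuadraticForm Qf) (hι : 0 < Fintype.card ι) {g h : GL ι F} {s : S}
    (h1 : Lf m e g s) (h2 : Lf m e h s) : g = h ∨ g = -h := by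
  have h3 := h1.mul h2.inv
  rw [mul_inv_cancel] at h3
  rcases h3.one_or hQ hι with h4 | h4
  · left
    exact mul_inv_eq_one.1 h4
  · right
    rw [mul_inv_eq_iff_eq_mul] at h4
    rw [h4, neg_one_mul]

/-- the conclusion in `Q` -/
theorem to_Q {t : Fin 7 → GL ι F} (ht : ∀ i, Lf m e (t i) (tr (pt i))) {x : GL ι F} (hx : x ∈ omegaGL Qf)
    (hxt : ∀ i, x * t i = t (cyc i) * x) : ∃ y : Q, ∀ i, y * (e (tr (pt i)) : Q) * y⁻¹ = e (tr (pt (cyc i))) := by
  refine ⟨m.π ⟨x, hx⟩, fun i => ?_⟩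
  obtain ⟨h1, h2⟩ := ht i
  obtain ⟨h3, h4⟩ := ht (cyc i)
  rw [mul_inv_eq_iff_eq_mul, ← h2, ← h4, ← map_mul, ← map_mul]
  congr 1
  exact Subtype.ext (hxt i)

/-- squares are constant -/
theorem sq_const (hQ : IsNondegenerateQuadraticForm Qf) (hι : 0 < Fintype.card ι) {t : Fin 7 → GL ι F}
    (ht : ∀ i, Lf m e (t i) (tr (pt i))) (i j : Fin 7) {c : GL ι F} (hc : c = 1 ∨ c = -1) (hi : t i * t i = c) :
    t j * t j = c := by
  obtain ⟨s, hs⟩ := exists_act (pt_ne i) (pt_ne j)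
  obtain ⟨g, hg⟩ := exists_lf m e s
  have h1 := hg.conj (ht i)
  rw [conj_tr, hs] at h1
  have h2 : (g * t i * g⁻¹) * (g * t i * g⁻¹) = c := by
    have h3 : (g * t i * g⁻¹) * (g * t i * g⁻¹) = g * (t i * t i) * g⁻¹ := by group
    rw [h3, hi]
    rcases hc with rfl | rfl
    · group
    · simp
  rcases h1.pm hQ hι (ht j) with h3 | h3
  · rw [← h3, h2]
  · rw [h3, neg_mul_neg] at h2
    exact h2

/-- commutators are constant -/
theorem comm_const (hQ : IsNondegenerateQuadraticForm Qf) (hι : 0 < Fintype.card ι) {t : Fin 7 → GL ι F}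
    (ht : ∀ i, Lf m e (t i) (tr (pt i))) {c : GL ι F} (hc : c = 1 ∨ c = -1) (h01 : t 0 * t 1 = c * (t 1 * t 0))
    {i j : Fin 7} (hij : i ≠ j) : t i * t j = c * (t j * t i) := by
  obtain ⟨s, hs1, hs2⟩ := exists_pair (pt_ne 0) (pt_ne 1) (fun h => absurd (pt_inj h) (by decide)) (om_pt 0 1)
    (pt_ne i) (pt_ne j) (fun h => hij (pt_inj h).symm) (om_pt i j)
  obtain ⟨g, hg⟩ := exists_lf m e s
  have h1 := hg.conj (ht 0)
  rw [conj_tr, hs1] at h1
  have h2 := hg.conj (ht 1)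
  rw [conj_tr, hs2] at h2
  have hcg : g * c = c * g := by
    rcases hc with rfl | rfl
    · simp
    · simp
  have h3 : (g * t 0 * g⁻¹) * (g * t 1 * g⁻¹) = c * ((g * t 1 * g⁻¹) * (g * t 0 * g⁻¹)) := by
    calc (g * t 0 * g⁻¹) * (g * t 1 * g⁻¹) = g * (t 0 * t 1) * g⁻¹ := by group
      _ = g * c * (t 1 * t 0) * g⁻¹ := by rw [h01]; group
      _ = c * ((g * t 1 * g⁻¹) * (g * t 0 * g⁻¹)) := by rw [hcg]; group
  rcases h1.pm hQ hι (ht i) with h4 | h4 <;> rcases h2.pm hQ hι (ht j) with h5 | h5 <;>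
    rw [h4, h5] at h3 <;> simpa using h3

/-- the product relation -/
theorem prod_pm (hQ : IsNondegenerateQuadraticForm Qf) (hι : 0 < Fintype.card ι) {t : Fin 7 → GL ι F}
    (ht : ∀ i, Lf m e (t i) (tr (pt i))) :
    t 6 * (t 2 * (t 4 * (t 5 * (t 0 * (t 1 * t 3))))) = 1 ∨ t 6 * (t 2 * (t 4 * (t 5 * (t 0 * (t 1 * t 3))))) = -1 := by
  refine Lf.one_or hQ hι (m := m) (e := e) ?_
  have h1 := (ht 6).mul ((ht 2).mul ((ht 4).mul ((ht 5).mul ((ht 0).mul ((ht 1).mul (ht 3))))))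
  have e1 : tr (pt 6) * (tr (pt 2) * (tr (pt 4) * (tr (pt 5) * (tr (pt 0) * (tr (pt 1) * tr (pt 3)))))) = 1 := by
    rw [← fano_prod]
    simp [fano, pt]
  rw [e1] at h1
  exact h1

end lift

section anti

variable {Q : Type*} [Group Q] {A : Subgroup Q} {F : Type*} [Field F] {ι : Type} [Fintype ι] [DecidableEq ι]
  {Qf : (ι → F) → F} {m : Model Q (omegaGL Qf)} {e : S ≃* A} {t : Fin 7 → GL ι F}

theorem anti_pair (hanti : ∀ i j, i ≠ j → t i * t j = -(t j * t i)) {a b c : Fin 7} (hac : c ≠ a) (hbc : c ≠ b) :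
    t c * (t a * t b) = (t a * t b) * t c := by
  calc t c * (t a * t b) = (t c * t a) * t b := by rw [mul_assoc]
    _ = -(t a * (t c * t b)) := by rw [hanti c a hac, neg_mul, mul_assoc]
    _ = (t a * t b) * t c := by rw [hanti c b hbc, mul_neg, neg_neg, mul_assoc]

theorem anti_four (hanti : ∀ i j, i ≠ j → t i * t j = -(t j * t i)) {a b c d : Fin 7} (hac : c ≠ a) (hbc : c ≠ b)
    (had : d ≠ a) (hbd : d ≠ b) : Commute (t c * t d) (t a * t b) := by
  show t c * t d * (t a * t b) = t a * t b * (t c * t d)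
  rw [mul_assoc, anti_pair hanti had hbd, ← mul_assoc, anti_pair hanti hac hbc, mul_assoc]

theorem anti_sq (hanti : ∀ i j, i ≠ j → t i * t j = -(t j * t i)) {c : GL ι F} (hc : c = 1 ∨ c = -1)
    (hsq : ∀ i, t i * t i = c) {a b : Fin 7} (hab : a ≠ b) : (t a * t b) * (t a * t b) = -1 := by
  calc (t a * t b) * (t a * t b) = t a * (t b * t a) * t b := by group
    _ = -((t a * t a) * (t b * t b)) := by rw [hanti b a hab.symm]; simp [mul_assoc]
    _ = -1 := by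
      rw [hsq, hsq]
      rcases hc with rfl | rfl <;> simp

theorem anti_neg (hQ : IsNondegenerateQuadraticForm Qf) (hι : 0 < Fintype.card ι)
    (ht : ∀ i, Lf m e (t i) (tr (pt i))) (hanti : ∀ i j, i ≠ j → t i * t j = -(t j * t i)) (i : Fin 7) :
    t i * t i = -1 := by
  have h1 : t 3 * t 3 = 1 ∨ t 3 * t 3 = -1 := by
    refine Lf.one_or hQ hι (m := m) (e := e) ?_
    have := (ht 3).mul (ht 3)
    rwa [tr_sq] at this
  obtain ⟨c, hc, h3⟩ : ∃ c : GL ι F, (c = 1 ∨ c = -1) ∧ t 3 * t 3 = c := ⟨_, h1, rfl⟩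
  have hsq : ∀ i, t i * t i = c := fun i => sq_const hQ hι ht 3 i hc h3
  rw [hsq]
  have b1 := anti_sq hanti hc hsq (a := 6) (b := 2) (by decide)
  have b2 := anti_sq hanti hc hsq (a := 4) (b := 5) (by decide)
  have b3 := anti_sq hanti hc hsq (a := 0) (b := 1) (by decide)
  have c12 : Commute (t 6 * t 2) (t 4 * t 5) := anti_four hanti (by decide) (by decide) (by decide) (by decide)
  have c13 : Commute (t 6 * t 2) (t 0 * t 1) := anti_four hanti (by decide) (by decide) (by decide) (by decide)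
  have c23 : Commute (t 4 * t 5) (t 0 * t 1) := anti_four hanti (by decide) (by decide) (by decide) (by decide)
  have h5 : ((t 6 * t 2) * ((t 4 * t 5) * (t 0 * t 1))) * ((t 6 * t 2) * ((t 4 * t 5) * (t 0 * t 1))) = -1 := by
    rw [← sq, (c12.mul_right c13).mul_pow, c23.mul_pow, sq, sq, sq, b1, b2, b3]
    simp
  have h6 : ((t 6 * t 2) * ((t 4 * t 5) * (t 0 * t 1))) = (t 3)⁻¹ ∨
      ((t 6 * t 2) * ((t 4 * t 5) * (t 0 * t 1))) = -(t 3)⁻¹ := by
    have h7 : t 6 * (t 2 * (t 4 * (t 5 * (t 0 * (t 1 * t 3))))) = ((t 6 * t 2) * ((t 4 * t 5) * (t 0 * t 1))) * t 3 := by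
      group
    rcases prod_pm hQ hι ht with h8 | h8
    · left
      rw [h7] at h8
      exact eq_inv_of_mul_eq_one_left h8
    · right
      rw [h7] at h8
      rw [eq_mul_inv_of_mul_eq h8, neg_one_mul]
  have h7 : (t 3)⁻¹ * (t 3)⁻¹ = -1 := by
    rcases h6 with h8 | h8
    · rw [h8] at h5
      exact h5
    · rw [h8, neg_mul_neg] at h5
      exact h5
  have h8 : (t 3 * t 3)⁻¹ = -1 := by rw [_root_.mul_inv_rev, h7]
  rw [hsq 3, inv_eq_iff_eq_inv] at h8
  rw [h8]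
  simp

/-- the similitudes `t a - t b` -/
def sm2 (t : Fin 7 → GL ι F) (a b : Fin 7) : Matrix ι ι F := (t a : Matrix ι ι F) - (t b : Matrix ι ι F)

theorem coe_anti (hanti : ∀ i j, i ≠ j → t i * t j = -(t j * t i)) {i j : Fin 7} (hij : i ≠ j) :
    (t i : Matrix ι ι F) * (t j : Matrix ι ι F) = -((t j : Matrix ι ι F) * (t i : Matrix ι ι F)) := by
  have := congrArg Units.val (hanti i j hij)
  simpa using this

theorem coe_sq (hsq : ∀ i, t i * t i = -1) (i : Fin 7) : (t i : Matrix ι ι F) * (t i : Matrix ι ι F) = -1 := by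
  have := congrArg Units.val (hsq i)
  simpa using this

theorem sm2_sq (hanti : ∀ i j, i ≠ j → t i * t j = -(t j * t i)) (hsq : ∀ i, t i * t i = -1) {a b : Fin 7}
    (hab : a ≠ b) : sm2 t a b * sm2 t a b = (-2 : F) • 1 := by
  unfold sm2
  rw [sub_mul, mul_sub, mul_sub, coe_sq hsq, coe_sq hsq, coe_anti hanti hab]
  module

theorem sm2_mul (hanti : ∀ i j, i ≠ j → t i * t j = -(t j * t i)) (hsq : ∀ i, t i * t i = -1) (a b i : Fin 7) : sm2 t a b * (t i : Matrix ι ι F) = -((t (Equiv.swap a b i) : Matrix ι ι F) * sm2 t a b) := by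
  unfold sm2
  by_cases hia : i = a
  · rw [hia, Equiv.swap_apply_left, sub_mul, mul_sub, coe_sq hsq, coe_sq hsq]
    abel
  · by_cases hib : i = b
    · rw [hib, Equiv.swap_apply_right, sub_mul, mul_sub, coe_sq hsq, coe_sq hsq]
      abel
    · rw [Equiv.swap_apply_of_ne_of_ne hia hib, sub_mul, mul_sub, coe_anti hanti (Ne.symm hia), coe_anti hanti (Ne.symm hib)]
      abel

theorem sm2_Q (h2 : (2 : F) ≠ 0) (hQ : IsNondegenerateQuadraticForm Qf) (hiso : ∀ i, t i ∈ isometryGroup F Qf)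
    (hanti : ∀ i j, i ≠ j → t i * t j = -(t j * t i)) (hsq : ∀ i, t i * t i = -1) {a b : Fin 7}
    (hab : a ≠ b) (v : ι → F) : Qf (sm2 t a b *ᵥ v) = 2 * Qf v := by
  have hB := hQ.polar_bilinear
  have hneg : ∀ u w, QuadraticMap.polar Qf u (-w) = -QuadraticMap.polar Qf u w := by
    intro u w
    rw [← neg_one_smul F w, hB.smul_right, neg_one_mul]
  have hnegl : ∀ u w, QuadraticMap.polar Qf (-u) w = -QuadraticMap.polar Qf u w := by
    intro u w
    rw [← neg_one_smul F u, hB.smul_left, neg_one_mul]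
  have hsqv : ∀ i, av (t i) (av (t i) v) = -v := by
    intro i
    rw [← av_mul, hsq]
    unfold av
    rw [Units.val_neg, Units.val_one, Matrix.neg_mulVec, Matrix.one_mulVec]
  have h1 : QuadraticMap.polar Qf (av (t a) v) (av (t b) v) = -QuadraticMap.polar Qf v (av (t a) (av (t b) v)) := by
    rw [← polar_av (hiso a), hsqv, hnegl]
  have h3 : QuadraticMap.polar Qf (av (t a) v) (av (t b) v) = -QuadraticMap.polar Qf v (av (t b) (av (t a) v)) := by
    rw [QuadraticMap.polar_comm, ← polar_av (hiso b), hsqv, hnegl]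
  have h4 : av (t b) (av (t a) v) = -(av (t a) (av (t b) v)) := by
    rw [← av_mul, ← av_mul, hanti b a hab.symm]
    unfold av
    rw [Units.val_neg, Matrix.neg_mulVec]
  rw [h4, hneg, neg_neg] at h3
  have h5 : QuadraticMap.polar Qf (av (t a) v) (av (t b) v) = 0 := by
    have h6 : (2 : F) * QuadraticMap.polar Qf (av (t a) v) (av (t b) v) = 0 := by linear_combination h1 + h3
    exact (mul_eq_zero.1 h6).resolve_left h2
  have h6 : sm2 t a b *ᵥ v = av (t a) v + -(av (t b) v) := by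
    unfold sm2 av
    rw [Matrix.sub_mulVec, sub_eq_add_neg]
  have h7 : ∀ u w, Qf (u + w) = Qf u + Qf w + QuadraticMap.polar Qf u w := by
    intro u w
    unfold QuadraticMap.polar
    ring
  have h8 : Qf (-(av (t b) v)) = Qf (av (t b) v) := by
    rw [← neg_one_smul F (av (t b) v), hQ.smul]
    ring
  rw [h6, h7, hneg, h5, h8, mem_iso.1 (hiso a), mem_iso.1 (hiso b)]
  ring

/-- the elements inducing 3-cycles -/
theorem exists_three (h2 : (2 : F) ≠ 0) (hQ : IsNondegenerateQuadraticForm Qf) (hiso : ∀ i, t i ∈ isometryGroup F Qf)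
    (hanti : ∀ i j, i ≠ j → t i * t j = -(t j * t i)) (hsq : ∀ i, t i * t i = -1) {a b c : Fin 7}
    (hab : a ≠ b) (hbc : b ≠ c) : ∃ g ∈ isometryGroup F Qf, ∀ i, g * t i * g⁻¹ = t (Equiv.swap a b (Equiv.swap b c i)) := by
  have h4 : (2 : F)⁻¹ * (2 : F)⁻¹ * (-2) * (-2) = 1 := by
    field_simp
  have e1 : ((2 : F)⁻¹ • (sm2 t a b * sm2 t b c)) * ((2 : F)⁻¹ • (sm2 t b c * sm2 t a b)) = 1 := by
    calc ((2 : F)⁻¹ • (sm2 t a b * sm2 t b c)) * ((2 : F)⁻¹ • (sm2 t b c * sm2 t a b))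
        = ((2 : F)⁻¹ * (2 : F)⁻¹) • (sm2 t a b * (sm2 t b c * sm2 t b c) * sm2 t a b) := by
          rw [smul_mul_smul_comm]
          simp only [mul_assoc]
      _ = 1 := by
          rw [sm2_sq hanti hsq hbc, mul_smul_comm, mul_one, smul_mul_assoc, sm2_sq hanti hsq hab, smul_smul, smul_smul]
          rw [h4, one_smul]
  have e2 : ((2 : F)⁻¹ • (sm2 t b c * sm2 t a b)) * ((2 : F)⁻¹ • (sm2 t a b * sm2 t b c)) = 1 := mul_eq_one_comm.1 e1
  refine ⟨⟨_, _, e1, e2⟩, ?_, fun i => ?_⟩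
  · rw [mem_iso]
    intro v
    show Qf (((2 : F)⁻¹ • (sm2 t a b * sm2 t b c)) *ᵥ v) = _
    rw [Matrix.smul_mulVec, hQ.smul, ← Matrix.mulVec_mulVec, sm2_Q h2 hQ hiso hanti hsq hab,
      sm2_Q h2 hQ hiso hanti hsq hbc]
    field_simp
  · rw [mul_inv_eq_iff_eq_mul]
    apply Units.ext
    show ((2 : F)⁻¹ • (sm2 t a b * sm2 t b c)) * (t i : Matrix ι ι F) = (t (Equiv.swap a b (Equiv.swap b c i)) : Matrix ι ι F) *
      ((2 : F)⁻¹ • (sm2 t a b * sm2 t b c))
    rw [smul_mul_assoc, mul_smul_comm, mul_assoc, sm2_mul hanti hsq b c, mul_neg, ← mul_assoc, sm2_mul hanti hsq a b,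
      neg_mul, neg_neg, mul_assoc]

/-- **the anticommuting case** -/
theorem case_anti (h2 : (2 : F) ≠ 0) (hQ : IsNondegenerateQuadraticForm Qf) (hι : 0 < Fintype.card ι)
    (ht : ∀ i, Lf m e (t i) (tr (pt i))) (hanti : ∀ i j, i ≠ j → t i * t j = -(t j * t i)) :
    ∃ y : Q, ∀ i, y * (e (tr (pt i)) : Q) * y⁻¹ = e (tr (pt (cyc i))) := by
  have hsq := fun i => anti_neg hQ hι ht hanti i
  have hiso : ∀ i, t i ∈ isometryGroup F Qf := fun i => iso_of_omega (ht i).1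
  obtain ⟨g, hg, hgt⟩ := exists_three h2 hQ hiso hanti hsq (a := 0) (b := 2) (c := 4) (by decide) (by decide)
  obtain ⟨h, hh, hht⟩ := exists_three h2 hQ hiso hanti hsq (a := 1) (b := 2) (c := 5) (by decide) (by decide)
  have hinv : ∀ {g : GL ι F} {σ τ : Fin 7 → Fin 7}, (∀ i, g * t i * g⁻¹ = t (σ i)) → (∀ i, σ (τ i) = i) →
      ∀ i, g⁻¹ * t i * g = t (τ i) := by
    intro g σ τ hg hst i
    have := hg (τ i)
    rw [hst] at this
    rw [← this]
    group
  have hgi := hinv hgt (τ := fun i => Equiv.swap 2 4 (Equiv.swap 0 2 i)) (by intro i; simp)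
  have hhi := hinv hht (τ := fun i => Equiv.swap 2 5 (Equiv.swap 1 2 i)) (by intro i; simp)
  have hx : ⁅g, h⁆ ∈ omegaGL Qf := by
    refine ⟨⁅(⟨g, hg⟩ : isometryGroup F Qf), ⟨h, hh⟩⁆, ?_, rfl⟩
    exact Subgroup.commutator_mem_commutator (Subgroup.mem_top _) (Subgroup.mem_top _)
  refine to_Q ht hx fun i => ?_
  rw [← mul_inv_eq_iff_eq_mul]
  calc ⁅g, h⁆ * t i * ⁅g, h⁆⁻¹ = g * (h * (g⁻¹ * (h⁻¹ * t i * h) * g) * h⁻¹) * g⁻¹ := by
        rw [commutatorElement_def]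
        group
    _ = t (cyc i) := by
        rw [hhi, hgi, hht, hgt]
        congr 1
        revert i
        decide +kernel

end anti

end Cfsg.Agent.H84.EP
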