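import Cfsg.Agent.SporRec.TwoSp6.Sp
import Cfsg.Agent.H931.SpProper
import Cfsg.Prelude.Def_GeometricClasses

/-!
# S3499, `Sp₆(2)` : the group `D = O₂(P₃)` and three elements of `L₃(2)` (helper84)

`W = {enc c | c < 8}` maximal isotropic, `pt i = enc (i + 1)` its nonzero vectors, `tr (pt i)` generate `D = 2⁶`.
-/

set_option autoImplicit false

namespace Cfsg.Agent.H84.EP

open Cfsg Matrix Cfsg.Agent.SporRec.TwoSp6.Sp
open Cfsg.Agent.H876 (spToGL)

/-- the nonzero vectors of `W` -/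
def pt (i : Fin 7) : V := enc (i.val + 1)

theorem om_pt (i j : Fin 7) : om (pt i) (pt j) = 0 := by
  unfold pt
  rw [om_enc]
  have : ∀ i j : Fin 7, fN (i.val + 1) (j.val + 1) = false := by decide
  rw [this i j]
  rfl

theorem enc_inj : ∀ c < 64, ∀ d < 64, enc c = enc d → c = d := by decide +kernel

theorem pt_ne (i : Fin 7) : pt i ≠ 0 := by
  have : ∀ i : Fin 7, pt i ≠ 0 := by decide +kernel
  exact this i

theorem pt_inj {i j : Fin 7} (h : pt i = pt j) : i = j := by
  have := enc_inj _ (by omega) _ (by omega) h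
  exact Fin.ext (by omega)

/-- addition of points -/
theorem pt_add {i j k : Fin 7} (h : (i.val + 1) ^^^ (j.val + 1) = k.val + 1) : pt i + pt j = pt k := by
  unfold pt
  rw [← enc_xor, h]

theorem add_pt {i j k : Fin 7} (h : pt i + pt j = pt k) : (i.val + 1) ^^^ (j.val + 1) = k.val + 1 := by
  unfold pt at h
  rw [← enc_xor] at h
  refine enc_inj _ ?_ _ (by omega) h
  have : ∀ i j : Fin 7, (i.val + 1) ^^^ (j.val + 1) < 64 := by decide
  exact this i j

/-- the maps of points induced by linear maps -/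
def Lin (τ : Fin 7 → Fin 7) : Prop :=
  ∀ i j k : Fin 7, (i.val + 1) ^^^ (j.val + 1) = k.val + 1 → ((τ i).val + 1) ^^^ ((τ j).val + 1) = (τ k).val + 1

instance (τ : Fin 7 → Fin 7) : Decidable (Lin τ) := by unfold Lin; infer_instance

/-- three involutions of `L₃(2)` -/
def gp : Fin 3 → Fin 7 → Fin 7
  | 0 => ![5, 4, 2, 3, 1, 0, 6]
  | 1 => ![6, 1, 4, 3, 2, 5, 0]
  | 2 => ![0, 2, 1, 3, 4, 6, 5]

/-- an element of order 7 -/
def yp : Fin 7 → Fin 7 := ![1, 3, 5, 2, 0, 6, 4]

/-- a cycle of length 3 -/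
def cyc : Fin 7 → Fin 7 := ![0, 1, 4, 3, 5, 2, 6]

/-- its inverse -/
def cyc' : Fin 7 → Fin 7 := ![0, 1, 5, 3, 2, 4, 6]

theorem cyc_inv : (∀ i, cyc (cyc' i) = i) ∧ ∀ i, cyc' (cyc i) = i := by decide

theorem gp_inv : ∀ k i, gp k (gp k i) = i := by decide

theorem lin_gp : ∀ k, Lin (gp k) := by decide +kernel

theorem lin_yp : Lin yp := by decide +kernel

theorem not_lin_cyc : ¬ Lin cyc := by decide +kernel

theorem not_lin_conj : ∀ k : Fin 3, ¬ Lin (fun i => cyc' (gp k (cyc i))) := by decide +kernel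

/-- every nonzero subspace of `W` is invariant under one of the three involutions -/
theorem exists_gp : ∀ s : Fin 7 → Bool, (∃ i, s i = true) →
    (∀ i j k : Fin 7, (i.val + 1) ^^^ (j.val + 1) = k.val + 1 → s i = true → s j = true → s k = true) →
    ∃ k : Fin 3, ∀ i, s i = true → s (gp k i) = true := by decide +kernel

/-- block diagonal elements -/
def LL (g h : Matrix (Fin 3) (Fin 3) (ZMod 2)) (hgh : g * hᵀ = 1) : S :=
  ⟨fromBlocks g 0 0 h, by
    have h2 : h * gᵀ = 1 := by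
      have := congrArg transpose hgh
      rwa [transpose_mul, transpose_transpose, transpose_one] at this
    rw [SymplecticGroup.mem_iff, Matrix.J, fromBlocks_transpose, fromBlocks_multiply, fromBlocks_multiply]
    congr 1
    · simp
    · simp [hgh]
    · simp [h2]
    · simp⟩

/-- the matrices of the three involutions -/
def gm : Fin 3 → Matrix (Fin 3) (Fin 3) (ZMod 2)
  | 0 => !![0, 1, 0; 1, 0, 0; 1, 1, 1]
  | 1 => !![1, 0, 0; 1, 1, 0; 1, 0, 1]
  | 2 => !![1, 1, 0; 0, 1, 0; 0, 0, 1]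

/-- the matrix of the element of order 7 -/
def ym : Matrix (Fin 3) (Fin 3) (ZMod 2) := !![0, 0, 1; 1, 0, 1; 0, 1, 0]

def ym' : Matrix (Fin 3) (Fin 3) (ZMod 2) := !![1, 0, 1; 1, 0, 0; 0, 1, 0]

theorem gm_sq : ∀ k, gm k * gm k = 1 := by decide +kernel

theorem ym_inv : ym * ym'ᵀ = 1 := by decide +kernel

/-- the three involutions in `Sp₆(2)` -/
def ga (k : Fin 3) : S := LL (gm k) (gm k)ᵀ (by rw [transpose_transpose]; exact gm_sq k)

/-- the element of order 7 in `Sp₆(2)` -/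
def ya : S := LL ym ym' ym_inv

theorem act_LL (g h : Matrix (Fin 3) (Fin 3) (ZMod 2)) (hgh : g * hᵀ = 1) (x : V) :
    act (LL g h hgh) x = Sum.elim (g *ᵥ (x ∘ Sum.inl)) (h *ᵥ (x ∘ Sum.inr)) := by
  show fromBlocks g 0 0 h *ᵥ x = _
  conv_lhs => rw [← Sum.elim_comp_inl_inr x]
  rw [fromBlocks_mulVec]
  simp

theorem act_ga (k : Fin 3) (i : Fin 7) : act (ga k) (pt i) = pt (gp k i) := by
  rw [ga, act_LL]
  revert k i
  decide +kernel

theorem act_ya (i : Fin 7) : act ya (pt i) = pt (yp i) := by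
  rw [ya, act_LL]
  revert i
  decide +kernel

theorem ga_sq (k : Fin 3) : ga k * ga k = 1 := by
  apply Subtype.ext
  show fromBlocks (gm k) 0 0 (gm k)ᵀ * fromBlocks (gm k) 0 0 (gm k)ᵀ = 1
  rw [fromBlocks_multiply, ← transpose_mul, gm_sq]
  simp

end Cfsg.Agent.H84.EP
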