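import Cfsg.Agent.H84.EP.SpA

/-!
# S3499, `Sp₆(2)` : combinatorics of the weights of `D` (helper84)
-/

set_option autoImplicit false

namespace Cfsg.Agent.H84.EP

open Cfsg Matrix Cfsg.Agent.SporRec.TwoSp6.Sp

/-- parity -/
def par (ε : Fin 7 → Bool) : Bool :=
  xor (ε 0) (xor (ε 1) (xor (ε 2) (xor (ε 3) (xor (ε 4) (xor (ε 5) (ε 6))))))

/-- the weights of the vectors `ya⁻ʲ v` are distinct -/
theorem comb1 : ∀ ε : Fin 7 → Bool, ε 0 = true → par ε = false → ∀ j j' : Fin 7,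
    (∀ i, ε (yp^[j.val] i) = ε (yp^[j'.val] i)) → j = j' := by decide +kernel

/-- the orbits of `L₃(2)` of length 7 -/
theorem comb2 : ∀ ε : Fin 7 → Bool, ε 0 = true → par ε = false →
    (∀ k : Fin 3, ∀ j : Fin 7, ∃ j' : Fin 7, ∀ i, ε (yp^[j.val] (gp k i)) = ε (yp^[j'.val] i)) →
    (∃ i0, ∀ i, ε i = !decide (i = i0)) ∨
      ∀ j : Fin 7, xor (ε (yp^[j.val] 0)) (xor (ε (yp^[j.val] 1)) (ε (yp^[j.val] 2))) = false := by
  decide +kernel

theorem comb3 : ∀ i0 i : Fin 7, ∃ n : Fin 7, yp^[n.val] i = i0 := by decide +kernel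

theorem yp_inj : Function.Injective yp := by decide +kernel

theorem yp_iter_inj (n : ℕ) : Function.Injective yp^[n] := yp_inj.iterate n

/-- square roots of the three involutions -/
def sp : Fin 3 → Fin 7 → Fin 7
  | 0 => ![1, 5, 3, 2, 0, 4, 6]
  | 1 => ![2, 3, 6, 1, 0, 5, 4]
  | 2 => ![0, 5, 6, 4, 3, 2, 1]

theorem sp_sp : ∀ k i, sp k (sp k i) = gp k i := by decide

def sm : Fin 3 → Matrix (Fin 3) (Fin 3) (ZMod 2)
  | 0 => !![0, 0, 1; 1, 1, 1; 0, 1, 0]
  | 1 => !![1, 0, 0; 1, 0, 1; 0, 1, 0]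
  | 2 => !![1, 0, 1; 0, 1, 0; 0, 1, 1]

theorem sm_four : ∀ k, sm k * (sm k * sm k * sm k) = 1 := by decide +kernel

theorem sm_sq : ∀ k, sm k * sm k = gm k := by decide +kernel

theorem sm_six : ∀ k, (sm k * sm k * sm k)ᵀ * (sm k * sm k * sm k)ᵀ = (gm k)ᵀ := by decide +kernel

/-- the square roots in `Sp₆(2)` -/
def sa (k : Fin 3) : S := LL (sm k) (sm k * sm k * sm k)ᵀ (by rw [transpose_transpose]; exact sm_four k)

theorem sa_sq (k : Fin 3) : sa k * sa k = ga k := by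
  apply Subtype.ext
  show fromBlocks (sm k) 0 0 (sm k * sm k * sm k)ᵀ * fromBlocks (sm k) 0 0 (sm k * sm k * sm k)ᵀ =
    fromBlocks (gm k) 0 0 (gm k)ᵀ
  rw [fromBlocks_multiply, sm_six, sm_sq]
  simp

theorem act_sa (k : Fin 3) (i : Fin 7) : act (sa k) (pt i) = pt (sp k i) := by
  rw [sa, act_LL]
  revert k i
  decide +kernel

/-- parity of `δ + δ ∘ s` -/
theorem comb4 : ∀ (k : Fin 3) (δ : Fin 7 → Bool), par (fun i => xor (δ i) (δ (sp k i))) = false := by decide +kernel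

/-- the diagonal elements -/
theorem comb5 : ∀ μ : Fin 7 → Bool, par μ = false → ∀ j : Fin 7,
    par (fun i => μ i && !decide (i = j)) = μ j := by decide +kernel

/-- the element of `D` with signs `μ` -/
def dd (μ : Fin 7 → Bool) : S := ((List.finRange 7).map fun i => if μ i then tr (pt i) else 1).prod

end Cfsg.Agent.H84.EP
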